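import Groth.Agent.S9147
import Groth.Agent.SyntLib.Rel
import Groth.Agent.KoszulLib.Basic
import Groth.Agent.S2235
import Groth.Agent.TateDual.Basic

/-!
# The Noether different of a quasi-finite relative global complete intersection
-/

set_option autoImplicit false
set_option backward.isDefEq.respectTransparency false
set_option linter.style.haveILetI false
set_option linter.unusedSectionVars false

universe u

open TensorProduct MvPolynomial

noncomputable section

namespace Groth.Agent.NoetherDiffGCI

variable {A : Type u} [CommRing A] {n : ℕ} (f : Fin n → MvPolynomial (Fin n) A)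

theorem dim_zero (κ F : Type u) [Field κ] [CommRing F] [Algebra κ F] [Module.Finite κ F] [Nontrivial F] :
    ringKrullDim F = 0 := by
  haveI := IsArtinianRing.of_finite κ F
  exact le_antisymm (Ring.krullDimLE_iff.1 (isArtinianRing_iff_isNoetherianRing_krullDimLE_zero.1 ‹_›).2)
    ringKrullDim_nonneg_of_nontrivial

/-- Quasi-finite presentations with as many equations as variables are relative global complete intersections. -/
theorem isRelGCI [Algebra.QuasiFinite A (MvPolynomial (Fin n) A ⧸ Ideal.span (Set.range f))] :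
    Synt.IsRelGCI A n n f := fun p hp => by
  haveI : Module.Finite p.asIdeal.ResidueField (p.asIdeal.Fiber (Synt.RelGCIRing A n n f)) :=
    Algebra.QuasiFinite.finite_fiber (R := A) (S := MvPolynomial (Fin n) A ⧸ Ideal.span (Set.range f)) p.asIdeal
  haveI := hp
  refine ⟨le_rfl, ?_⟩
  rw [Nat.sub_self, Nat.cast_zero]
  exact dim_zero p.asIdeal.ResidueField (p.asIdeal.Fiber (Synt.RelGCIRing A n n f))

/-- The Koszul complex of the equations is acyclic. -/
theorem acyclic (h : Synt.IsRelGCI A n n f) : Wiebe.Acyclic f :=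
  KoszulLib.acyclic_of_local fun Q _ => by
    by_cases hQ : Ideal.span (Set.range f) ≤ Q
    · refine KoszulLib.acyclic_of_isWeaklyRegular' ?_
      have := (SyntLib.relGCI_regular h Q hQ).1.toIsWeaklyRegular
      rwa [List.map_ofFn] at this
    · refine KoszulLib.acyclic_of_span_eq_top ?_
      rw [Set.range_comp, ← Ideal.map_span]
      obtain ⟨x, hx, hxQ⟩ := Set.not_subset.1 hQ
      exact Ideal.eq_top_of_isUnit_mem _ (Ideal.mem_map_of_mem _ hx)
        (IsLocalization.map_units _ (⟨x, hxQ⟩ : Q.primeCompl))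

/-- The diagonal generators generate the kernel of the multiplication. -/
theorem ker_productMap {B : Type u} [CommRing B] [Algebra A B] (mk : MvPolynomial (Fin n) A →ₐ[A] B) :
    RingHom.ker (Algebra.TensorProduct.productMap mk (AlgHom.id A B)) =
      Ideal.span (Set.range fun j => (X j ⊗ₜ[A] (1 : B) - (1 : MvPolynomial (Fin n) A) ⊗ₜ[A] mk (X j))) := by
  set g : Fin n → MvPolynomial (Fin n) A ⊗[A] B :=
    fun j => (X j ⊗ₜ[A] (1 : B) - (1 : MvPolynomial (Fin n) A) ⊗ₜ[A] mk (X j))
  refine le_antisymm (fun z hz => ?_) ?_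
  · have hmain : ∀ z : MvPolynomial (Fin n) A ⊗[A] B,
        z - (1 : MvPolynomial (Fin n) A) ⊗ₜ[A] Algebra.TensorProduct.productMap mk (AlgHom.id A B) z ∈
          Ideal.span (Set.range g) := fun z => by
      induction z using TensorProduct.induction_on with
      | zero => simp
      | add x y hx hy =>
        rw [map_add, tmul_add, add_sub_add_comm]
        exact add_mem hx hy
      | tmul p b =>
        rw [Algebra.TensorProduct.productMap_apply_tmul, AlgHom.id_apply]
        induction p using MvPolynomial.induction_on generalizing b with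
        | C a =>
          rw [← MvPolynomial.algebraMap_eq, Algebra.algebraMap_eq_smul_one, map_smul, map_one, smul_tmul,
            smul_one_mul]
          simp
        | add p q hp hq =>
          rw [map_add, add_mul, add_tmul, tmul_add, add_sub_add_comm]
          exact add_mem (hp b) (hq b)
        | mul_X p i hp =>
          have e : (p * X i) ⊗ₜ[A] b - (1 : MvPolynomial (Fin n) A) ⊗ₜ[A] (mk (p * X i) * b) =
              g i * (p ⊗ₜ[A] b) + (p ⊗ₜ[A] (mk (X i) * b) -
                (1 : MvPolynomial (Fin n) A) ⊗ₜ[A] (mk p * (mk (X i) * b))) := by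
            simp only [g, sub_mul, Algebra.TensorProduct.tmul_mul_tmul, one_mul, map_mul, mul_comm (X i) p, mul_assoc]
            ring
          rw [e]
          exact add_mem (Ideal.mul_mem_right _ _ (Ideal.subset_span ⟨i, rfl⟩)) (hp _)
    have := hmain z
    rwa [RingHom.mem_ker.1 hz, tmul_zero, sub_zero] at this
  · rw [Ideal.span_le]
    rintro _ ⟨j, rfl⟩
    simp [g]

/-- The annihilator of the diagonal ideal. -/
theorem annihilator_eq {P : Type u} [CommRing P] [Algebra A P] (f : Fin n → P) (hf : Wiebe.Acyclic f)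
    [Module.Flat A (P ⧸ Ideal.span (Set.range f))]
    (g : Fin n → P ⊗[A] (P ⧸ Ideal.span (Set.range f)))
    (hgker : Ideal.span (Set.range g) = RingHom.ker (Algebra.TensorProduct.productMap
      (Ideal.Quotient.mkₐ A (Ideal.span (Set.range f))) (AlgHom.id A (P ⧸ Ideal.span (Set.range f)))))
    (c : Matrix (Fin n) (Fin n) (P ⊗[A] (P ⧸ Ideal.span (Set.range f))))
    (hc : ∀ i, f i ⊗ₜ[A] (1 : P ⧸ Ideal.span (Set.range f)) = ∑ j, c i j * g j) :
    Submodule.annihilator (RingHom.ker
        (Algebra.TensorProduct.lmul' (S := P ⧸ Ideal.span (Set.range f)) A)) =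
      Ideal.span {Algebra.TensorProduct.map (Ideal.Quotient.mkₐ A (Ideal.span (Set.range f)))
        (AlgHom.id A (P ⧸ Ideal.span (Set.range f))) (Matrix.det c)} := by
  classical
  let I := Ideal.span (Set.range f)
  let R := P ⊗[A] (P ⧸ I)
  let f' : Fin n → R := fun i => f i ⊗ₜ[A] 1
  have hac' : Wiebe.Acyclic f' := S2235.acyclic_baseChange hf
  let q : R →ₐ[A] (P ⧸ I) ⊗[A] (P ⧸ I) :=
    Algebra.TensorProduct.map (Ideal.Quotient.mkₐ A I) (AlgHom.id A (P ⧸ I))
  have hqs : Function.Surjective q :=
    TensorProduct.map_surjective (Ideal.Quotient.mkₐ_surjective A I) Function.surjective_id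
  have hkq : RingHom.ker q = Ideal.span (Set.range f') := by
    rw [Algebra.TensorProduct.map_ker _ _ (Ideal.Quotient.mkₐ_surjective A I) Function.surjective_id]
    have h1 : RingHom.ker (Ideal.Quotient.mkₐ A I) = I := Ideal.Quotient.mkₐ_ker A I
    have h2 : RingHom.ker (AlgHom.id A (P ⧸ I)) = ⊥ :=
      (RingHom.injective_iff_ker_eq_bot _).1 Function.injective_id
    rw [h1, h2, Ideal.map_bot, sup_bot_eq, Ideal.map_span, ← Set.range_comp]
    rfl
  have hcomp : (Algebra.TensorProduct.lmul' (S := P ⧸ I) A).comp q =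
      Algebra.TensorProduct.productMap (Ideal.Quotient.mkₐ A I) (AlgHom.id A (P ⧸ I)) := by
    ext x <;> simp [q]
  have hker : RingHom.ker (Algebra.TensorProduct.lmul' (S := P ⧸ I) A) = Ideal.span (Set.range (q ∘ g)) := by
    rw [← Ideal.map_comap_of_surjective q hqs (RingHom.ker (Algebra.TensorProduct.lmul' (S := P ⧸ I) A)),
      Set.range_comp, ← Ideal.map_span]
    congr 1
    rw [hgker, ← hcomp]
    rfl
  have hcf : ∀ i, f' i = ∑ j, c i j * g j := hc
  apply le_antisymm
  · intro t ht
    obtain ⟨a, rfl⟩ := hqs t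
    have ha : ∀ j, a * g j ∈ Ideal.span (Set.range f') := fun j => by
      rw [← hkq, RingHom.mem_ker, map_mul]
      exact Submodule.mem_annihilator.1 ht _ (hker ▸ Ideal.subset_span ⟨j, rfl⟩)
    have := Ideal.mem_map_of_mem q (Wiebe.mem_of_mul_mem hac' c hcf ha)
    rw [Ideal.map_sup, Ideal.map_span q {c.det}, Set.image_singleton,
      show Ideal.map q (Ideal.span (Set.range f')) = ⊥ from (Ideal.map_eq_bot_iff_le_ker _).2 hkq.ge, bot_sup_eq] at this
    exact this
  · rw [Ideal.span_singleton_le_iff_mem, Submodule.mem_annihilator, hker]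
    intro x hx
    induction hx using Submodule.span_induction with
    | mem x hx =>
      obtain ⟨j, rfl⟩ := hx
      show q c.det * q (g j) = 0
      rw [← map_mul, ← RingHom.mem_ker, hkq]
      exact Wiebe.det_mul_mem c hcf j
    | zero => exact smul_zero _
    | add x y _ _ hx hy => rw [smul_add, hx, hy, add_zero]
    | smul r x _ hx => rw [smul_comm, hx, smul_zero]

/-- The Noether different is generated by the Jacobian determinant. -/
theorem main [Algebra.QuasiFinite A (MvPolynomial (Fin n) A ⧸ Ideal.span (Set.range f))] :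
    Module.Flat A (MvPolynomial (Fin n) A ⧸ Ideal.span (Set.range f)) ∧
      Disc.noetherDifferent A (MvPolynomial (Fin n) A ⧸ Ideal.span (Set.range f)) =
        Ideal.span {Ideal.Quotient.mk (Ideal.span (Set.range f))
          (Matrix.det (Matrix.of fun i j => MvPolynomial.pderiv j (f i)))} := by
  classical
  have h := isRelGCI f
  haveI hflat : Module.Flat A (MvPolynomial (Fin n) A ⧸ Ideal.span (Set.range f)) :=
    (S9147.result A n n f h).1
  refine ⟨hflat, ?_⟩
  let I := Ideal.span (Set.range f)
  let mk := Ideal.Quotient.mkₐ A I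
  let ρ : MvPolynomial (Fin n) A ⊗[A] MvPolynomial (Fin n) A →ₐ[A]
      MvPolynomial (Fin n) A ⊗[A] (MvPolynomial (Fin n) A ⧸ I) :=
    Algebra.TensorProduct.map (AlgHom.id A (MvPolynomial (Fin n) A)) mk
  choose C hC hC' using fun i => TateDual.exists_diff (f i)
  let g : Fin n → MvPolynomial (Fin n) A ⊗[A] (MvPolynomial (Fin n) A ⧸ I) :=
    fun j => X j ⊗ₜ[A] 1 - (1 : MvPolynomial (Fin n) A) ⊗ₜ[A] mk (X j)
  have hc : ∀ i, f i ⊗ₜ[A] (1 : MvPolynomial (Fin n) A ⧸ I) = ∑ j, (Matrix.of fun i j => ρ (C i j)) i j * g j := fun i => by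
    have := congrArg ρ (hC i)
    rw [map_sum, map_sub] at this
    simp only [ρ, g, map_mul, map_sub, Algebra.TensorProduct.map_tmul, AlgHom.id_apply, map_one, Matrix.of_apply] at this ⊢
    rw [← this]
    have h0 : mk (f i) = 0 := Ideal.Quotient.eq_zero_iff_mem.2 (Ideal.subset_span ⟨i, rfl⟩)
    rw [h0, tmul_zero, sub_zero]
  unfold Disc.noetherDifferent
  rw [annihilator_eq f (acyclic f h) g (ker_productMap mk).symm (Matrix.of fun i j => ρ (C i j)) hc, Ideal.map_span,
    Set.image_singleton]
  congr 2
  let L : MvPolynomial (Fin n) A ⊗[A] (MvPolynomial (Fin n) A ⧸ I) →ₐ[A] MvPolynomial (Fin n) A ⧸ I :=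
    (Algebra.TensorProduct.lmul' (S := MvPolynomial (Fin n) A ⧸ I) A).comp
      (Algebra.TensorProduct.map mk (AlgHom.id A (MvPolynomial (Fin n) A ⧸ I)))
  have hL : L.comp ρ = mk.comp (Algebra.TensorProduct.lmul' (S := MvPolynomial (Fin n) A) A) := by
    ext x <;> simp [L, ρ]
  show L (Matrix.det (Matrix.of fun i j => ρ (C i j))) =
    mk (Matrix.det (Matrix.of fun i j => MvPolynomial.pderiv j (f i)))
  refine (AlgHom.map_det L (Matrix.of fun i j => ρ (C i j))).trans ?_
  refine Eq.trans ?_ (AlgHom.map_det mk (Matrix.of fun i j => MvPolynomial.pderiv j (f i))).symm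
  congr 1
  ext i j
  simp only [AlgHom.mapMatrix_apply, Matrix.map_apply, Matrix.of_apply]
  rw [← hC' i j]
  exact DFunLike.congr_fun hL (C i j)

end Groth.Agent.NoetherDiffGCI
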